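import Groth.Agent.SchImageLib.Reduced

/-!
# Scheme-theoretic image of an immersion whose kernel is computed componentwise

All results take the hypothesis `hker : ∀ U, f.ker.ideal U = RingHom.ker (f.app U).hom`, which holds
if `f` is quasi-compact or the source is reduced.
-/

universe u

open AlgebraicGeometry CategoryTheory TopologicalSpace

namespace Groth.Agent.SchImageLib

variable {X Y : Scheme.{u}} (f : X ⟶ Y)

set_option backward.isDefEq.respectTransparency false in
lemma toImage_app_injective_affine
    (hker : ∀ U : Y.affineOpens, f.ker.ideal U = RingHom.ker (f.app U).hom) (U : Y.affineOpens) :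
    Function.Injective (f.toImage.app (f.imageι ⁻¹ᵁ U.1)) := by
  simp only [f.toImage_app U, CommRingCat.hom_comp, CommRingCat.hom_ofHom, RingHom.coe_comp]
  exact (RingHom.lift_injective_of_ker_le_ideal _ _ (hker U).ge).comp
    (f.ker.subschemeObjIso U).commRingCatIsoToRingEquiv.injective

/-- Sections over every open of the scheme-theoretic image inject. -/
lemma toImage_app_injective
    (hker : ∀ U : Y.affineOpens, f.ker.ideal U = RingHom.ker (f.app U).hom) (V : f.image.Opens) :
    Function.Injective (f.toImage.app V) := by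
  rw [injective_iff_map_eq_zero]
  intro s hs
  refine f.image.IsSheaf.section_ext fun x hx ↦ ?_
  obtain ⟨_, ⟨_, ⟨U, hU, rfl⟩, rfl⟩, hxU, hUV⟩ :=
    (Y.isBasis_affineOpens.of_isInducing f.imageι.isEmbedding.isInducing).exists_subset_of_mem_open
      hx V.isOpen
  have hUV' : f.imageι ⁻¹ᵁ U ≤ V := hUV
  refine ⟨f.imageι ⁻¹ᵁ U, hUV', hxU, toImage_app_injective_affine f hker ⟨U, hU⟩ ?_⟩
  rw [← ConcreteCategory.comp_apply, f.toImage.naturality]
  simp [hs]

lemma denseRange_toImage (hsupp : (f.ker.support : Set Y) = closure (Set.range f)) :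
    DenseRange f.toImage.base := by
  rw [denseRange_iff_closure_range, f.imageι.isEmbedding.closure_eq_preimage_closure_image,
    ← Set.range_comp, ← TopCat.coe_comp, ← Scheme.Hom.comp_base, f.toImage_imageι]
  refine Set.eq_univ_of_forall fun x => ?_
  have h : Set.range f.imageι = (f.ker.support : Set Y) :=
    Scheme.IdealSheafData.range_subschemeι _
  have : f.imageι x ∈ closure (Set.range f) := hsupp ▸ h ▸ ⟨x, rfl⟩
  exact this

set_option backward.isDefEq.respectTransparency false in
lemma isOpenImmersion_toImage [IsImmersion f]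
    (hker : ∀ U : Y.affineOpens, f.ker.ideal U = RingHom.ker (f.app U).hom) :
    IsOpenImmersion f.toImage := by
  have H : IsPullback f.toImage f.liftCoborder f.imageι f.coborderRange.ι := by
    refine (isPullback_of_isClosedImmersion _ _ _ _ (by simp) ?_).flip
    rw [Scheme.Hom.imageι, Scheme.IdealSheafData.ker_subschemeι]
    ext U : 2
    simp only [Scheme.IdealSheafData.ideal_comap_of_isOpenImmersion, Scheme.Opens.ι_appIso,
      Iso.refl_inv, hker, RingHom.comap_ker, ← CommRingCat.hom_comp, Scheme.Hom.ker_apply]
    dsimp [Scheme.Opens.toScheme_presheaf_obj]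
    rw [RingHomCompTriple.comp_eq, AlgebraicGeometry.liftCoborder_app,
      CommRingCat.hom_comp, RingHom.ker_comp_of_injective]
    rw [← ConcreteCategory.mono_iff_injective_of_preservesPullback]
    infer_instance
  exact MorphismProperty.of_isPullback H.flip inferInstance

lemma isSchemeTheoreticallyDominant_of_app_injective {A B : Scheme.{u}} (k : A ⟶ B)
    (hk : ∀ V : B.Opens, Function.Injective (k.app V)) : IsSchemeTheoreticallyDominant k := by
  refine ⟨Scheme.IdealSheafData.ext (funext fun U => le_bot_iff.mp ?_)⟩
  refine (k.ideal_ker_le U).trans ?_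
  rw [(RingHom.injective_iff_ker_eq_bot _).mp (hk U.1)]

set_option backward.isDefEq.respectTransparency false in
/-- If sections of `B` inject into those of an open subscheme, that open is scheme-theoretically
dense in the for-every-open sense. -/
lemma isSchemeTheoreticallyDominant_homOfLE {A B : Scheme.{u}} (j : A ⟶ B) [IsOpenImmersion j]
    (hj : ∀ V : B.Opens, Function.Injective (j.app V)) (W : B.Opens) :
    IsSchemeTheoreticallyDominant (B.homOfLE (inf_le_right : j.opensRange ⊓ W ≤ W)) := by
  have hk : IsSchemeTheoreticallyDominant (j ∣_ W) :=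
    isSchemeTheoreticallyDominant_of_app_injective _ fun V => by
      simp only [morphismRestrict_app, CommRingCat.hom_comp, RingHom.coe_comp]
      exact (ConcreteCategory.bijective_of_isIso _).1.comp (hj _)
  have hr : Set.range ((j.opensRange ⊓ W).ι) = Set.range ((j ⁻¹ᵁ W).ι ≫ j) := by
    rw [Scheme.Opens.range_ι, Scheme.Hom.comp_base, TopCat.coe_comp, Set.range_comp,
      Scheme.Opens.range_ι]
    ext y
    constructor
    · rintro ⟨⟨x, rfl⟩, hy⟩
      exact ⟨x, hy, rfl⟩
    · rintro ⟨x, hy, rfl⟩
      exact ⟨⟨x, rfl⟩, hy⟩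
  have key : B.homOfLE (inf_le_right : j.opensRange ⊓ W ≤ W) =
      (IsOpenImmersion.isoOfRangeEq _ _ hr).hom ≫ (j ∣_ W) := by
    rw [← cancel_mono W.ι, Scheme.homOfLE_ι, Category.assoc, morphismRestrict_ι,
      IsOpenImmersion.isoOfRangeEq_hom_fac]
  rw [key]
  infer_instance

end Groth.Agent.SchImageLib
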