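import Mathlib

/-!
# Scheme-theoretic image of a morphism with reduced source

For `π : X ⟶ Y` with `X` reduced (no quasi-compactness), the kernel ideal sheaf is the vanishing
ideal of the closure of the range, and it is computed componentwise.
-/

universe u

open AlgebraicGeometry CategoryTheory TopologicalSpace

namespace Groth.Agent.SchImageLib

variable {X Y : Scheme.{u}} (π : X ⟶ Y) [IsReduced X]

/-- The closure of the range, as a closed set. -/
def rangeClosure : Closeds Y := ⟨closure (Set.range π), isClosed_closure⟩

lemma vanishingIdeal_ideal_eq_ker (U : Y.affineOpens) :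
    (Scheme.IdealSheafData.vanishingIdeal (rangeClosure π)).ideal U =
      RingHom.ker (π.app U).hom := by
  ext x
  rw [Scheme.IdealSheafData.vanishingIdeal_ideal, RingHom.mem_ker]
  have h1 : x ∈ PrimeSpectrum.vanishingIdeal (U.2.fromSpec ⁻¹' (rangeClosure π : Set Y)) ↔
      Disjoint (closure (Set.range π)) (Y.basicOpen x : Set Y) := by
    rw [PrimeSpectrum.mem_vanishingIdeal, Set.disjoint_left]
    constructor
    · intro h y hy hyx
      obtain ⟨p, rfl⟩ : y ∈ Set.range U.2.fromSpec := by
        rw [IsAffineOpen.range_fromSpec]; exact Y.basicOpen_le x hyx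
      have : p ∈ PrimeSpectrum.basicOpen x := by
        rw [← U.2.fromSpec_preimage_basicOpen]; exact hyx
      exact this (h p hy)
    · intro h p hp
      by_contra hx
      have : p ∈ U.2.fromSpec ⁻¹ᵁ Y.basicOpen x := by
        rw [U.2.fromSpec_preimage_basicOpen]; exact hx
      exact h hp this
  have h2 : Disjoint (closure (Set.range π)) (Y.basicOpen x : Set Y) ↔
      π ⁻¹' (Y.basicOpen x : Set Y) = ∅ := by
    rw [Set.preimage_eq_empty_iff, disjoint_comm]
    exact ⟨fun h => h.mono_right subset_closure, fun h => h.closure_right (Y.basicOpen x).isOpen⟩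
  rw [h1, h2, ← basicOpen_eq_bot_iff, ← Scheme.preimage_basicOpen]
  constructor
  · intro h; exact SetLike.coe_injective h
  · intro h; exact congrArg (fun V : X.Opens => (V : Set X)) h

lemma ker_eq_vanishingIdeal : π.ker = Scheme.IdealSheafData.vanishingIdeal (rangeClosure π) := by
  have : (fun U : Y.affineOpens => RingHom.ker (π.app U).hom) =
      (Scheme.IdealSheafData.vanishingIdeal (rangeClosure π)).ideal :=
    funext fun U => (vanishingIdeal_ideal_eq_ker π U).symm
  rw [Scheme.Hom.ker, this, Scheme.IdealSheafData.ofIdeals_ideal]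

lemma ker_ideal_eq (U : Y.affineOpens) : π.ker.ideal U = RingHom.ker (π.app U).hom := by
  rw [ker_eq_vanishingIdeal, vanishingIdeal_ideal_eq_ker]

lemma support_ker_eq : (π.ker.support : Set Y) = closure (Set.range π) := by
  rw [ker_eq_vanishingIdeal, Scheme.IdealSheafData.coe_support_vanishingIdeal]
  rfl

end Groth.Agent.SchImageLib
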